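import Cfsg.Agent.H133.PB.Basic
import Cfsg.Agent.H30.OneClass
import Cfsg.Agent.Blocks.Knorr
import Cfsg.Agent.H732.PB.AltSplit

/-!
# The row of the prime `2` for groups of Lie type of characteristic `2` (helper732)

* `BD.of_const` : an irreducible character with a nonzero constant value on the `q`-singular elements is in the
  principal `q`-block;
* `Crown p u G` : the prime `u ≠ p` divides `|G|` and the order of no proper subgroup of index prime to `p`;
* `row_of_alt` : `HasAlt 2 G` and `Crown 2 u G` give `Row 2 G`.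
-/

set_option autoImplicit false

namespace Cfsg.Agent.H732.PB

open Cfsg Cfsg.Agent Cfsg.Agent.H133.PB ComplexConjugate

universe u

/-- An irreducible character with a nonzero constant value on the `q`-singular elements is in the principal
`q`-block. -/
theorem mem_principalBlock_of_const {G : Type u} [Group G] [Finite G] {q : ℕ} [Fact q.Prime] {M : Ideal AlgInt}
    (hM : IsPModular q M) (χ : IrrCharacter G) {c : ℂ} (hc : c ≠ 0)
    (h : ∀ x : G, q ∣ orderOf x → (χ : G → ℂ) x = c) (hq : q ∣ Nat.card G) : χ ∈ principalBlock M G := by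
  classical
  have := Fintype.ofFinite G
  by_contra hcon
  have h1 := H30.OneClass.inner_eq_zero hM χ hcon
  unfold classInner at h1
  have h2 : ∑ g : G, (if q ∣ orderOf g then (1 : ℂ) else 0) * conj ((χ : G → ℂ) g) =
      ((Finset.univ.filter fun g : G => q ∣ orderOf g).card : ℂ) * conj c := by
    rw [Finset.card_eq_sum_ones, Nat.cast_sum, Finset.sum_mul, Finset.sum_filter]
    refine Finset.sum_congr rfl fun g _ => ?_
    split_ifs with hg
    · rw [h g hg, Nat.cast_one]
    · rw [zero_mul]
  rw [h2] at h1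
  obtain ⟨x, hx⟩ := exists_prime_orderOf_dvd_card' q hq
  have h3 : (Finset.univ.filter fun g : G => q ∣ orderOf g).card ≠ 0 := by
    rw [Ne, Finset.card_eq_zero, ← Ne, ← Finset.nonempty_iff_ne_empty]
    exact ⟨x, Finset.mem_filter.2 ⟨Finset.mem_univ _, by rw [hx]⟩⟩
  have h4 : conj c ≠ 0 := fun h0 => hc (by
    have := congrArg conj h0
    rwa [Complex.conj_conj, map_zero] at this)
  rcases mul_eq_zero.1 h1 with h5 | h5
  · exact (inv_ne_zero (Nat.cast_ne_zero.2 Nat.card_pos.ne')) h5
  · rcases mul_eq_zero.1 h5 with h6 | h6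
    · exact h3 (by exact_mod_cast h6)
    · exact h4 h6

theorem BD.of_const {G : Type u} [Group G] [Finite G] {p q : ℕ} [Fact q.Prime] (χ : IrrCharacter G) {c : ℂ}
    (hc : c ≠ 0) (h : ∀ x : G, q ∣ orderOf x → (χ : G → ℂ) x = c) (hq : q ∣ Nat.card G)
    (hp : p ∣ charDegree (χ : G → ℂ)) : BD p q G :=
  fun _ hM => ⟨χ, mem_principalBlock_of_const hM χ hc h hq, hp⟩

/-- The prime `u ≠ p` divides `|G|` and the order of no proper subgroup of index prime to `p`. -/
def Crown (p u : ℕ) (G : Type u) [Group G] : Prop :=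
  u.Prime ∧ u ≠ p ∧ u ∣ Nat.card G ∧ ∀ P : Subgroup G, P ≠ ⊤ → ¬ p ∣ P.index → ¬ u ∣ Nat.card P

/-- The alternating sum is even at `1`, for subgroups of odd index. -/
theorem even_of_alt {G : Type u} [Group G] [Finite G] {I : Type u} [Fintype I] [Nonempty I]
    (Q : Finset I → Subgroup G) (hQ : ∀ J, ¬ 2 ∣ (Q J).index) {χ : G → ℂ} (hχ : IsIrrCharacter G χ)
    (h : χ = fun g => ∑ J ∈ (Finset.univ : Finset I).powerset, (-1 : ℂ) ^ J.card * fixedPointCharacter (Q J) g) :
    2 ∣ charDegree χ := by
  classical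
  have h1 : (charDegree χ : ℂ) = χ 1 := (Blocks.Knorr.charDegree_eq hχ).symm
  have h2 : ∀ J, fixedPointCharacter (Q J) (1 : G) = ((Q J).index : ℂ) := by
    intro J
    unfold fixedPointCharacter
    have : MulAction.fixedBy (G ⧸ Q J) (1 : G) = Set.univ := by
      ext x
      simp
    rw [this]
    have h3 : Nat.card (Set.univ : Set (G ⧸ Q J)) = (Q J).index := by
      rw [Nat.card_congr (Equiv.Set.univ _)]
      rfl
    rw [h3]
  have h3 : ((charDegree χ : ℤ) : ℂ) =
      ((∑ J ∈ (Finset.univ : Finset I).powerset, (-1 : ℤ) ^ J.card * ((Q J).index : ℤ) : ℤ) : ℂ) := by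
    push_cast
    rw [h1, h]
    refine Finset.sum_congr rfl fun J _ => ?_
    rw [h2]
  have h4 : (charDegree χ : ℤ) =
      ∑ J ∈ (Finset.univ : Finset I).powerset, (-1 : ℤ) ^ J.card * ((Q J).index : ℤ) := by exact_mod_cast h3
  have h5 : (2 : ℤ) ∣ (charDegree χ : ℤ) - ((Finset.univ : Finset I).powerset.card : ℤ) := by
    rw [h4, Finset.card_eq_sum_ones, Nat.cast_sum, ← Finset.sum_sub_distrib]
    refine Finset.dvd_sum fun J _ => ?_
    have h6 : ((Q J).index : ℤ) % 2 = 1 := by have := hQ J; omega
    rcases neg_one_pow_eq_or ℤ J.card with h7 | h7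
    · rw [h7]; push_cast; omega
    · rw [h7]; push_cast; omega
  have h6 : (2 : ℤ) ∣ ((Finset.univ : Finset I).powerset.card : ℤ) := by
    rw [Finset.card_powerset, Finset.card_univ]
    have := Fintype.card_pos (α := I)
    exact_mod_cast dvd_pow_self 2 this.ne'
  have h7 := dvd_add h5 h6
  rw [sub_add_cancel] at h7
  exact_mod_cast h7

theorem row_of_alt {G : Type u} [Group G] [Finite G] {q : ℕ} (h : HasAlt 2 G) (hc : Crown 2 q G) : Row 2 G := by
  classical
  obtain ⟨I, _, _, _, Q, hirr, htop, hne, hidx⟩ := h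
  obtain ⟨hq, hq2, hd, hP⟩ := hc
  have := Fact.mk hq
  refine ⟨q, hq, hq2, hd, BD.of_const (χ := ⟨_, hirr⟩) (c := (-1 : ℂ) ^ (Finset.univ : Finset I).card)
    (pow_ne_zero _ (by norm_num)) ?_ hd (even_of_alt Q hidx hirr rfl)⟩
  intro x hx
  show ∑ J ∈ (Finset.univ : Finset I).powerset, (-1 : ℂ) ^ J.card * fixedPointCharacter (Q J) x = _
  rw [Finset.sum_eq_single (Finset.univ : Finset I)]
  · have h1 : fixedPointCharacter (Q Finset.univ) x = 1 := by
      rw [htop]
      unfold fixedPointCharacter
      have h2 : Subsingleton (G ⧸ (⊤ : Subgroup G)) := QuotientGroup.subsingleton_quotient_top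
      have h3 : MulAction.fixedBy (G ⧸ (⊤ : Subgroup G)) x = Set.univ := by
        ext y
        simp only [MulAction.mem_fixedBy, Set.mem_univ, iff_true]
        exact Subsingleton.elim _ _
      rw [h3, Nat.card_congr (Equiv.Set.univ _)]
      have : Nat.card (G ⧸ (⊤ : Subgroup G)) = 1 := Subgroup.index_top
      rw [this, Nat.cast_one]
    rw [h1, mul_one]
  · intro J _ hJ
    have h1 : fixedPointCharacter (Q J) x = 0 := by
      unfold fixedPointCharacter
      have h2 : MulAction.fixedBy (G ⧸ Q J) x = ∅ := by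
        rw [Set.eq_empty_iff_forall_notMem]
        intro y hy
        induction y using QuotientGroup.induction_on with
        | _ g =>
        have h3 : x • (QuotientGroup.mk g : G ⧸ Q J) = QuotientGroup.mk g := hy
        have h4 : g⁻¹ * x * g ∈ Q J := by
          have h5 : (QuotientGroup.mk (x * g) : G ⧸ Q J) = QuotientGroup.mk g := h3
          rw [eq_comm, QuotientGroup.eq, ← mul_assoc] at h5
          exact h5
        refine hP (Q J) (hne J hJ) (hidx J) ?_
        have h6 : orderOf (⟨g⁻¹ * x * g, h4⟩ : Q J) = orderOf x := by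
          rw [← Subgroup.orderOf_coe]
          have h7 : g⁻¹ * x * g = MulAut.conj g⁻¹ x := by simp
          exact (congrArg orderOf h7).trans (MulEquiv.orderOf_eq (MulAut.conj g⁻¹) x)
        exact (h6 ▸ hx).trans (orderOf_dvd_natCard _)
      rw [h2]
      simp
    rw [h1, mul_zero]
  · intro hcon
    exact absurd (Finset.mem_powerset_self _) hcon

end Cfsg.Agent.H732.PB
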