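import Mathlib
import Cfsg.Agent.H524.CopAll
import Cfsg.Agent.H532.Thr.Aut
import Cfsg.Agent.H693.PB.Defs

/-!
# S4826: the coprime automorphisms of the known simple groups

* `cop_of_copMove` : Glauberman's lemma;
* `cop_of_known` : `H693.PB.Cop` for the known nonabelian simple groups.
-/

set_option autoImplicit false

namespace Cfsg.Agent.H732.PB

open Subgroup Cfsg Cfsg.Agent.H524.DirRed Cfsg.Agent.H532

universe u

/-- If a coprime automorphism fixes no conjugate of `x`, it moves the class of `x`. -/
theorem cop_of_copMove {S : Type u} [Group S] [Finite S] (h : CopMove S) : H693.PB.Cop S := by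
  intro p x hp hpS hx
  have hx1 : x ≠ 1 := by
    rintro rfl
    rw [orderOf_one] at hx
    exact hp.one_lt.ne hx
  have hcop : (orderOf x).Coprime (Nat.card S) := by
    rw [hx]
    exact (Nat.Prime.coprime_iff_not_dvd hp).2 hpS
  obtain ⟨g, hg, hmove⟩ := h x hx1 hcop
  refine ⟨g, hg, fun hc => ?_⟩
  have hC : Thr.Cop x p := ⟨hp.pos, by rw [← hx]; exact pow_orderOf_eq_one x, by rw [← hx]; exact hcop⟩
  obtain ⟨⟨y, hy, hfix⟩, -⟩ := hC.glaub_conj g hc.symm
  obtain ⟨c, hc'⟩ := isConj_iff.1 hy
  exact hmove c (by rw [hc']; exact hfix)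

/-- **Coprime automorphisms of the known simple groups move a class of elements of prime power order.** -/
theorem cop_of_known {S : Type u} [Group S] [Finite S] [IsSimpleGroup S] (hna : ¬ IsMulCommutative S)
    (hk : IsKnownSimple' S) : H693.PB.Cop S :=
  cop_of_copMove (H524.CopAll.copMove_known hna hk)

end Cfsg.Agent.H732.PB
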