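import Cfsg.Agent.H732.PB.Crit
import Cfsg.Agent.H394.SqPsu3
import Cfsg.Agent.H394.SqPsl2
import Cfsg.Agent.H210.Loc.TI

/-!
# Primes dividing the order of no Borel subgroup: groups of rank one (helper732)
-/

set_option autoImplicit false

namespace Cfsg.Agent.H732.PB

open MulAction Subgroup Cfsg Cfsg.Agent.H394.SqTI

/-- **Groups with TI Sylow `p`-subgroups of order `Q`, of order `Q (Q + 1) h`, `h < Q`.** -/
theorem crown_of_ti {T : Type*} [Group T] [Finite T] [IsSimpleGroup T] {p : ℕ} [hp : Fact p.Prime]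
    (hTI : ∀ P Q : Sylow p T, P ≠ Q → (P : Subgroup T) ⊓ Q = ⊥) {Q h k r : ℕ} (hQ : Q = p ^ k) (hk : k ≠ 0)
    (hord : Nat.card T = Q * ((Q + 1) * h)) (hph : ¬ p ∣ h) (hlt : h < Q)
    (hr : r.Prime) (hrQ : r ∣ Q + 1) (hrh : ¬ r ∣ h) : Crown p r T := by
  classical
  have hh0 : 0 < h := Nat.pos_of_ne_zero (fun h0 => hph (h0 ▸ dvd_zero p))
  have hpQ : p ∣ Q := hQ ▸ dvd_pow_self p hk
  have hpQ1 : ¬ p ∣ Q + 1 := fun h1 => hp.out.one_lt.ne' (Nat.dvd_one.1 ((Nat.dvd_add_right hpQ).1 h1))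
  have hrp : r ≠ p := by rintro rfl; exact hpQ1 hrQ
  have hrQ0 : ¬ r ∣ Q := fun h1 => hr.one_lt.ne' (Nat.dvd_one.1 ((Nat.dvd_add_right h1).1 hrQ))
  have hcardP : ∀ P : Sylow p T, Nat.card P = Q := by
    intro P
    rw [P.card_eq_multiplicity, hord]
    have h2 : ¬ p ∣ (Q + 1) * h := fun h3 => (hp.out.dvd_mul.1 h3).elim hpQ1 hph
    have hQ0 : Q ≠ 0 := by rw [hQ]; exact pow_ne_zero _ hp.out.ne_zero
    have h3 : (Q + 1) * h ≠ 0 := by positivity
    rw [Nat.factorization_mul hQ0 h3, Finsupp.add_apply, Nat.factorization_eq_zero_of_not_dvd h2,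
      add_zero]
    conv_rhs => rw [hQ]
    congr 1
    rw [hQ, hp.out.factorization_pow, Finsupp.single_eq_same]
  have hcount : ∀ P : Sylow p T, Nat.card (Sylow p T) = 1 + Nat.card P := by
    intro P
    apply card_sylow_eq hTI P (h := h)
    · rw [hcardP]; exact hpQ
    · rw [hcardP]; exact hord
    · rw [hcardP]; exact hlt
  refine ⟨hr, hrp, ?_, fun M hM hidx hrM => ?_⟩
  · rw [hord]
    exact (hrQ.mul_right h).mul_left Q
  -- a Sylow subgroup in `M`
  obtain ⟨S⟩ := (inferInstance : Nonempty (Sylow p M))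
  obtain ⟨P, hSP⟩ := S.exists_comap_subtype_eq
  have hSP' : (P : Subgroup T).subgroupOf M = S := hSP
  have hPM : (P : Subgroup T) ≤ M := by
    have h1 : Nat.card ((P : Subgroup T) ⊓ M : Subgroup T) = Nat.card S := by
      rw [← hSP']
      exact (Nat.card_congr (subgroupOfEquivOfLe (inf_le_right : (P : Subgroup T) ⊓ M ≤ M)).toEquiv).symm.trans
        (by rw [inf_subgroupOf_right])
    have h2 : Nat.card S = Nat.card P := by
      rw [S.card_eq_multiplicity, P.card_eq_multiplicity]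
      congr 1
      have h3 : Nat.card M * M.index = Nat.card T := M.card_mul_index
      rw [← h3, Nat.factorization_mul Nat.card_pos.ne' index_ne_zero_of_finite, Finsupp.add_apply,
        Nat.factorization_eq_zero_of_not_dvd hidx, add_zero]
    have h3 : (P : Subgroup T) ⊓ M = P :=
      eq_of_le_of_card_ge inf_le_left (by rw [h1, h2])
    exact inf_eq_left.1 h3
  have horb := card_orbit_sub hTI P M
  rw [inf_eq_right.2 hPM] at horb
  have hle : Nat.card (orbit M P) ≤ 1 + Q := by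
    rw [← hcardP P, ← hcount P]
    exact Nat.card_le_card_of_injective _ Subtype.val_injective
  have hpos : 0 < Nat.card (orbit M P) := by
    have : Nonempty (orbit M P) := ⟨⟨P, mem_orbit_self P⟩⟩
    exact Nat.card_pos
  obtain ⟨j, hj⟩ := horb
  have hcP : Nat.card (P : Subgroup T) = Q := hcardP P
  rw [hcP] at hj
  have hQpos : 0 < Q := by rw [hQ]; exact pow_pos hp.out.pos _
  have hj1 : j = 0 ∨ j = 1 := by
    by_contra hcon
    have h2 : 2 ≤ j := by omega
    have h3 : Q * 2 ≤ Q * j := Nat.mul_le_mul_left _ h2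
    omega
  rcases hj1 with rfl | rfl
  · -- `M` normalises `P`
    have h1 : Nat.card (orbit M P) = 1 := by omega
    have h2 : ∀ m : M, m • P = P := by
      intro m
      have h3 : Subsingleton (orbit M P) := (Nat.card_eq_one_iff_unique.1 h1).1
      have h4 : (⟨m • P, mem_orbit P m⟩ : orbit M P) = ⟨P, mem_orbit_self P⟩ := Subsingleton.elim _ _
      exact congrArg Subtype.val h4
    have h3 : M ≤ normalizer ((P : Subgroup T) : Set T) := fun m hm =>
      Sylow.smul_eq_iff_mem_normalizer.1 (h2 ⟨m, hm⟩)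
    have h4 : Nat.card (normalizer ((P : Subgroup T) : Set T)) * (1 + Q) = Nat.card T := by
      have h5 : Nat.card (Sylow p T) = (normalizer ((P : Subgroup T) : Set T)).index :=
        P.card_eq_index_normalizer
      rw [hcount P, hcardP] at h5
      have h6 := (normalizer ((P : Subgroup T) : Set T)).card_mul_index
      rwa [← h5] at h6
    have h5 : Nat.card (normalizer ((P : Subgroup T) : Set T)) = Q * h := by
      rw [hord] at h4
      have h6 : Nat.card (normalizer ((P : Subgroup T) : Set T)) * (1 + Q) = Q * h * (1 + Q) := by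
        rw [h4]; ring
      exact Nat.eq_of_mul_eq_mul_right (by omega) h6
    have h6 := hrM.trans (card_dvd_of_le h3)
    rw [h5, hr.dvd_mul] at h6
    exact h6.elim hrQ0 hrh
  · -- `M` contains all Sylow subgroups
    have h1 : Nat.card (orbit M P) = Nat.card (Sylow p T) := by rw [hcount P, hcardP P]; omega
    have h2 : orbit M P = Set.univ := by
      refine Set.eq_of_subset_of_ncard_le (Set.subset_univ _) ?_ (Set.toFinite _)
      rw [Set.ncard_univ, ← h1, Nat.card_coe_set_eq]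
    have h3 : ∀ g : T, ∃ m ∈ M, m • P = g • P := by
      intro g
      have h4 : g • P ∈ orbit M P := by rw [h2]; exact Set.mem_univ _
      obtain ⟨m, hm⟩ := h4
      exact ⟨m, m.2, hm⟩
    have h4 : normalClosure ((P : Subgroup T) : Set T) ≤ M := by
      rw [normalClosure, closure_le]
      intro z hz
      obtain ⟨w, hw, hwz⟩ := Group.mem_conjugatesOfSet_iff.1 hz
      obtain ⟨c, rfl⟩ := isConj_iff.1 hwz
      obtain ⟨m, hm, hmP⟩ := h3 c
      have h5 : c * w * c⁻¹ ∈ ((c • P : Sylow p T) : Subgroup T) := by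
        rw [Sylow.smul_def]
        exact ⟨w, hw, rfl⟩
      rw [← hmP, Sylow.smul_def] at h5
      obtain ⟨w', hw', hw''⟩ := h5
      have h6 : m * w' * m⁻¹ = c * w * c⁻¹ := hw''
      rw [← h6]
      exact mul_mem (mul_mem hm (hPM hw')) (inv_mem hm)
    rcases IsSimpleGroup.eq_bot_or_eq_top_of_normal (normalClosure ((P : Subgroup T) : Set T))
      normalClosure_normal with h5 | h5
    · have h6 : (P : Subgroup T) = ⊥ := by
        rw [eq_bot_iff, ← h5]
        exact subset_normalClosure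
      have h7 : Nat.card (P : Subgroup T) = 1 := by rw [h6]; exact card_bot
      rw [hcP] at h7
      rw [h7] at hpQ
      exact hp.out.one_lt.ne' (Nat.dvd_one.1 hpQ)
    · rw [h5, top_le_iff] at h4
      exact hM h4

/-- an odd prime divisor of `q + 1`, `q` even -/
theorem crown_psl2 {F : Type*} [Field F] [Fintype F] [CharP F 2] (h4 : 4 ≤ Fintype.card F)
    [IsSimpleGroup (Matrix.ProjectiveSpecialLinearGroup (Fin 2) F)] :
    ∃ u, Crown 2 u (Matrix.ProjectiveSpecialLinearGroup (Fin 2) F) := by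
  have : Fact (Nat.Prime 2) := ⟨Nat.prime_two⟩
  have hfin : Finite (Matrix.ProjectiveSpecialLinearGroup (Fin 2) F) := Quotient.finite _
  obtain ⟨n, -, hn⟩ := FiniteField.card F 2
  obtain ⟨q, hq⟩ : ∃ q, Fintype.card F = q := ⟨_, rfl⟩
  have hcard := H394.SqPsl2.card_psl (F := F)
  rw [hq] at hcard h4 hn
  have h2q : 2 ∣ q := by rw [hn]; exact dvd_pow_self 2 n.ne_zero
  have h2q1 : ¬ 2 ∣ q - 1 := by omega
  have hg : Nat.gcd 2 (q - 1) = 1 := (Nat.Prime.coprime_iff_not_dvd Nat.prime_two).2 h2q1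
  rw [hg, one_mul] at hcard
  obtain ⟨r, hr, hrd⟩ := Nat.exists_prime_and_dvd (n := q + 1) (by omega)
  refine ⟨r, crown_of_ti (p := 2) (H210.Loc.ti_psl2 (F := F)) (Q := q) (h := q - 1) (k := n) hn n.ne_zero ?_ h2q1
    (by omega) hr hrd ?_⟩
  · rw [hcard, H394.SqPsl2.sub_mul_self (by omega)]
  · intro h1
    have h2 : r ∣ 2 := by
      have := Nat.dvd_sub hrd h1
      have e : q + 1 - (q - 1) = 2 := by omega
      rwa [e] at this
    have h3 := (Nat.prime_dvd_prime_iff_eq hr Nat.prime_two).1 h2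
    subst h3
    omega

theorem crown_psu3 {F : Type*} [Field F] [Fintype F] [CharP F 2] {q : ℕ} (hF : Fintype.card F = q ^ 2) (hq : q ≠ 2)
    [IsSimpleGroup (PSU 3 F q)] [Finite (PSU 3 F q)] : ∃ u, Crown 2 u (PSU 3 F q) := by
  have hp : Fact (Nat.Prime 2) := ⟨Nat.prime_two⟩
  obtain ⟨N, -, hN⟩ := FiniteField.card F 2
  obtain ⟨n, hn⟩ : ∃ n, q = 2 ^ n := by
    have h1 : q ∣ 2 ^ (N : ℕ) := by rw [← hN, hF]; exact dvd_pow_self q (by norm_num)
    obtain ⟨n, -, hn⟩ := (Nat.dvd_prime_pow hp.out).1 h1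
    exact ⟨n, hn⟩
  have hn0 : n ≠ 0 := by
    rintro rfl
    rw [pow_zero] at hn
    rw [hn, one_pow] at hF
    have := Fintype.one_lt_card (α := F)
    omega
  have hq2 : 2 ≤ q := by
    rw [hn]
    calc 2 = 2 ^ 1 := (pow_one 2).symm
      _ ≤ 2 ^ n := Nat.pow_le_pow_right (by norm_num) (by omega)
  have hq3 : 2 < q := by omega
  have hpq : 2 ∣ q := hn ▸ dvd_pow_self 2 hn0
  have hcard := H394.SqPsu3.card_psu3 hF
  obtain ⟨d, hd⟩ : ∃ d, d = Nat.gcd 3 (q + 1) := ⟨_, rfl⟩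
  rw [← hd] at hcard
  have hd3 : d ∣ 3 := hd ▸ Nat.gcd_dvd_left _ _
  have hdq : d ∣ q ^ 2 - 1 := by
    have h1 : d ∣ q + 1 := hd ▸ Nat.gcd_dvd_right _ _
    have h2 : q ^ 2 - 1 = (q + 1) * (q - 1) := by
      have := Nat.sq_sub_sq q 1
      rwa [one_pow] at this
    rw [h2]; exact h1.mul_right _
  obtain ⟨h, hh⟩ := hdq
  have hd0 : 0 < d := Nat.pos_of_dvd_of_pos hd3 (by norm_num)
  have hq1 : 1 ≤ q ^ 2 := Nat.one_le_pow _ _ (by omega)
  obtain ⟨r, hr, hrd, hr3⟩ := H394.SqPsu3.exists_prime q hq3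
  have hcube : q ^ 3 + 1 = (q + 1) * (q ^ 2 - q + 1) := by
    have hqq : q ≤ q ^ 2 := Nat.le_self_pow (by norm_num) q
    zify [hqq]; ring
  have hph : ¬ 2 ∣ h := by
    intro h1
    have h2 : 2 ∣ q ^ 2 - 1 := by rw [hh]; exact h1.mul_left _
    have h3 : 2 ∣ q ^ 2 - (q ^ 2 - 1) := Nat.dvd_sub (hpq.trans (dvd_pow_self q (by norm_num))) h2
    rw [Nat.sub_sub_self hq1] at h3
    omega
  have hhle : h ≤ q ^ 2 - 1 := by rw [hh]; exact Nat.le_mul_of_pos_left _ hd0
  have hq23 : q ^ 2 ≤ q ^ 3 := Nat.pow_le_pow_right (by omega) (by norm_num)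
  refine ⟨r, crown_of_ti (p := 2) (H210.Loc.ti_psu3 hF) (Q := q ^ 3) (h := h) (k := n * 3) ?_ (by omega) ?_ hph ?_ hr
    ?_ ?_⟩
  · rw [hn, ← pow_mul]
  · rw [hh] at hcard
    apply Nat.eq_of_mul_eq_mul_left hd0
    rw [hcard]; ring
  · omega
  · rw [hcube]; exact hrd.mul_left _
  · intro h1
    have h2 : r ∣ q ^ 2 - 1 := by rw [hh]; exact h1.mul_left _
    have hz1 : (r : ℤ) ∣ (q : ℤ) ^ 2 - 1 := by
      have : ((q ^ 2 - 1 : ℕ) : ℤ) = (q : ℤ) ^ 2 - 1 := by push_cast [Nat.cast_sub hq1]; ring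
      rw [← this]; exact_mod_cast h2
    have hz2 : (r : ℤ) ∣ (q : ℤ) ^ 2 - q + 1 := by
      have : ((q ^ 2 - q + 1 : ℕ) : ℤ) = (q : ℤ) ^ 2 - q + 1 := by
        push_cast [Nat.cast_sub (show q ≤ q ^ 2 from Nat.le_self_pow (by norm_num) q)]; ring
      rw [← this]; exact_mod_cast hrd
    have hz3 : (r : ℤ) ∣ (q : ℤ) - 2 := by
      have := dvd_sub hz1 hz2
      have e : ((q : ℤ) ^ 2 - 1) - (q ^ 2 - q + 1) = q - 2 := by ring
      rwa [e] at this
    have hz4 : (r : ℤ) ∣ 3 := by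
      have h5 := dvd_sub hz1 (hz3.mul_right ((q : ℤ) + 2))
      have e : ((q : ℤ) ^ 2 - 1) - (q - 2) * (q + 2) = 3 := by ring
      rwa [e] at h5
    have h5 : r ∣ 3 := by exact_mod_cast hz4
    exact hr3 ((Nat.prime_dvd_prime_iff_eq hr Nat.prime_three).1 h5)

theorem crown_suzuki {T : Type*} [Group T] [Finite T] [IsSimpleGroup T] (hT : Cfsg.Lie.IsoSuzuki T) :
    ∃ u, Crown 2 u T := by
  have hp : Fact (Nat.Prime 2) := ⟨Nat.prime_two⟩
  have hTI := H210.Loc.ti_suzuki hT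
  obtain ⟨F, iF, iF', m, hm, hF, ⟨e⟩⟩ := hT
  have hcard := (Cfsg.Agent.S1163.result hm hF).1
  rw [← Nat.card_congr e.toEquiv] at hcard
  obtain ⟨q, hq⟩ : ∃ q, q = 2 ^ (2 * m + 1) := ⟨_, rfl⟩
  rw [← hq] at hcard
  have hq8 : 8 ≤ q := by
    rw [hq]
    calc 8 = 2 ^ 3 := by norm_num
      _ ≤ 2 ^ (2 * m + 1) := Nat.pow_le_pow_right (by norm_num) (by omega)
  have h2q : 2 ∣ q := hq ▸ dvd_pow_self 2 (by omega)
  obtain ⟨r, hr, hrd⟩ := Nat.exists_prime_and_dvd (n := q ^ 2 + 1) (by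
    have : 0 < q ^ 2 := by positivity
    omega)
  have hqq : q ≤ q ^ 2 := Nat.le_self_pow (by norm_num) q
  refine ⟨r, crown_of_ti (p := 2) hTI (Q := q ^ 2) (h := q - 1) (k := (2 * m + 1) * 2) ?_ (by omega) ?_ (by omega)
    (by omega) hr hrd ?_⟩
  · rw [hq, ← pow_mul]
  · rw [hcard]; ring
  · intro h1
    have h2 : r ∣ (q - 1) * (q + 1) := h1.mul_right _
    have h3 : q ^ 2 + 1 = (q - 1) * (q + 1) + 2 := by
      obtain ⟨t, rfl⟩ : ∃ t, q = t + 1 := ⟨q - 1, by omega⟩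
      rw [Nat.add_sub_cancel]; ring
    rw [h3] at hrd
    have h4 : r ∣ 2 := (Nat.dvd_add_right h2).1 hrd
    have h5 : r = 2 := (Nat.prime_dvd_prime_iff_eq hr Nat.prime_two).1 h4
    subst h5
    omega

end Cfsg.Agent.H732.PB
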