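import Cfsg.Agent.H732.PB.CrownRgd
import Cfsg.Agent.H732.PB.CrownTI
import Cfsg.Agent.H732.PB.CrownCl
import Cfsg.Agent.H732.PB.CrownPlus
import Cfsg.Agent.H979.LieSplit
import Cfsg.Agent.H809.SelfCentLin
import Cfsg.Agent.H809.SelfCentPSU
import Cfsg.Agent.H732.SelfCent
import Cfsg.Agent.H732.SelfCentO

/-!
# The row of the prime `2` for the groups of Lie type of characteristic `2` (helper732)
-/

set_option autoImplicit false

namespace Cfsg.Agent.H732.PB

open Cfsg Cfsg.Agent.H133.PB Cfsg.Agent.FixBN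

/-- **`Row 2`** : a self-centralising subgroup of odd prime order -/
theorem row_of_selfcent {G : Type*} [Group G] [Finite G] (hs : HasSplit 2 G) {r : ℕ} (hr : r.Prime) (hr2 : r ≠ 2)
    (h : ∃ R : Subgroup G, Nat.card R = r ∧ Subgroup.centralizer (R : Set G) = R) : Row 2 G := by
  have := Fact.mk hr
  have := Fact.mk Nat.prime_two
  obtain ⟨R, hR, hC⟩ := h
  obtain ⟨χ, hχ, hval⟩ := H163.Steinberg.exists_irr_of_hasSplit hs
  obtain ⟨S⟩ : Nonempty (Sylow 2 G) := inferInstance
  have h1 : (charDegree χ : ℂ) = (Nat.card S : ℂ) := by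
    rw [← (hval S).1]
    exact (Blocks.Knorr.charDegree_eq hχ).symm
  have h2 : charDegree χ = Nat.card S := by exact_mod_cast h1
  have hRp : IsPGroup r R := IsPGroup.of_card (n := 1) (by rw [hR, pow_one])
  obtain ⟨Q, hQ⟩ := hRp.exists_le_sylow
  obtain ⟨k, hk⟩ := S.isPGroup'.exists_card_eq
  have hk' : Nat.card S = 2 ^ k := hk
  refine ⟨r, hr, hr2, ?_, BD.of_sylow Q ?_ ⟨χ, hχ⟩ ?_ ?_⟩
  · rw [← hR]; exact Subgroup.card_subgroup_dvd_card R
  · refine hRp.to_le ?_
    have h3 : Subgroup.centralizer ((Q : Subgroup G) : Set G) ≤ Subgroup.centralizer (R : Set G) :=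
      Subgroup.centralizer_le hQ
    rwa [hC] at h3
  · show ¬ r ∣ charDegree χ
    rw [h2, hk']
    intro h3
    exact hr2 ((Nat.prime_dvd_prime_iff_eq hr Nat.prime_two).1 (hr.dvd_of_dvd_pow h3))
  · show 2 ∣ charDegree χ
    rw [h2, hk']
    rcases Nat.eq_zero_or_pos k with h0 | h0
    · exfalso
      obtain ⟨P, U, ⟨s, hsS⟩, hU⟩ := hs
      obtain ⟨V, hV⟩ := hU.node s hsS
      obtain ⟨u, hu, huV⟩ := hV.ne
      have hu1 : u ≠ 1 := fun h4 => huV (h4 ▸ one_mem V)
      obtain ⟨j, hj⟩ := hU.isP ⟨u, hu⟩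
      have h5 : u ^ 2 ^ j = 1 := congrArg Subtype.val hj
      have h6 : orderOf u ∣ 2 ^ j := orderOf_dvd_of_pow_eq_one h5
      obtain ⟨i, -, hi⟩ := (Nat.dvd_prime_pow Nat.prime_two).1 h6
      have hi0 : i ≠ 0 := by
        rintro rfl
        rw [pow_zero, orderOf_eq_one_iff] at hi
        exact hu1 hi
      have h7 : 2 ∣ Nat.card G := (dvd_pow_self 2 hi0).trans (hi ▸ orderOf_dvd_natCard u)
      have h8 := (S : Subgroup G).card_mul_index
      rw [← h8] at h7
      have h9 := (Nat.prime_two.dvd_mul.1 h7).resolve_right S.not_dvd_index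
      have h10 : Nat.card (S : Subgroup G) = 2 ^ k := hk
      rw [h10, h0, pow_zero] at h9
      norm_num at h9
    · exact dvd_pow_self 2 h0.ne'

theorem row_of_crown {G : Type*} [Group G] [Finite G] (hs : HasSplit 2 G) (h : ∃ u, Crown 2 u G) : Row 2 G := by
  have := Fact.mk Nat.prime_two
  obtain ⟨u, hu⟩ := h
  exact row_of_alt (hasAlt_of_hasSplit hs) hu

/-- **`Row 2 G` for the simple groups of Lie type of characteristic `2`.** -/
theorem row_two_of_isLieTypeChar {G : Type*} [Group G] [Finite G] [IsSimpleGroup G] (h : IsLieTypeChar 2 G) :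
    Row 2 G := by
  have hs : HasSplit 2 G := H979.LieSplit.hasSplit_of_isLieTypeChar Nat.prime_two h
  have key : ∀ {H : Type} [Group H], Nonempty (G ≃* H) → (∃ u, Crown 2 u H) → Row 2 G := by
    rintro H _ ⟨e⟩ ⟨u, hu⟩
    exact row_of_crown hs ⟨u, Crown.congr e.symm hu⟩
  have key2 : ∀ {H : Type} [Group H] {r : ℕ}, Nonempty (G ≃* H) → r.Prime → r ≠ 2 →
      (∃ R : Subgroup H, Nat.card R = r ∧ Subgroup.centralizer (R : Set H) = R) → Row 2 G := by
    rintro H _ r ⟨e⟩ hr hr2 hR
    exact row_of_selfcent hs hr hr2 (H732.SelfCent.selfcent_congr e.symm hR)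
  rcases h with h | h | h | h | h | h | h | h | ⟨-, h⟩ | ⟨-, h⟩ | ⟨h, -⟩
  · obtain ⟨F, _, _, _, n, hn, h4, he⟩ := h
    by_cases hn2 : n = 2
    · subst hn2
      obtain ⟨e⟩ := he
      have := H394.SqSzRee.simple_of_equiv e
      exact key ⟨e⟩ (crown_psl2 (h4 rfl))
    · by_cases h6 : Fintype.card F = 2 ∧ n = 6
      · obtain ⟨hF, rfl⟩ := h6
        exact key2 he (r := 31) (by norm_num) (by norm_num)
          (H809.SelfCent.psl_selfcent 6 2 31 (by simp) F hF)
      · exact key he (crown_psl (by omega) h6)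
  · obtain ⟨F, _, _, _, m, hm, h3, he⟩ := h
    by_cases h6 : Fintype.card F = 2 ∧ m = 3
    · obtain ⟨hF, rfl⟩ := h6
      exact key2 he (r := 7) (by norm_num) (by norm_num) (H732.SelfCent.psp_six_two hF)
    · exact key he (crown_psp hm h3 h6)
  · obtain ⟨F, _, _, _, n, q, hF, hn, h32, he⟩ := h
    by_cases hn3 : n = 3
    · subst hn3
      obtain ⟨e⟩ := he
      have := H394.SqSzRee.simple_of_equiv e
      have : Finite (PSU 3 F q) := Finite.of_equiv G e.toEquiv
      exact key ⟨e⟩ (crown_psu3 hF (fun h => h32 ⟨rfl, h⟩))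
    · by_cases h4 : q = 2 ∧ n = 4
      · obtain ⟨rfl, rfl⟩ := h4
        exact key2 he (r := 5) (by norm_num) (by norm_num) (H809.SelfCent.psu_four_two hF)
      · exact key he (crown_psu hF (by omega) h4)
  · obtain ⟨F, _, _, hc, m, hm, ho, he⟩ := h
    exfalso
    have h5 : Even (Fintype.card F) := by
      rw [Nat.even_iff]
      exact FiniteField.even_card_of_char_two (ringChar.eq F 2)
    exact (Nat.not_even_iff_odd.2 ho) h5
  · obtain ⟨F, _, _, _, m, hm, he⟩ := h
    by_cases h4 : Fintype.card F = 2 ∧ m = 4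
    · obtain ⟨hF, rfl⟩ := h4
      exact key2 he (r := 7) (by norm_num) (by norm_num) (H732.SelfCent.omega8plus_selfcent hF)
    · exact key he (crown_po_plus hm h4)
  · obtain ⟨F, _, _, _, m, a, b, hm, hab, he⟩ := h
    exact key he (crown_po_minus hm hab)
  · obtain ⟨F, _, _, _, h | h | h | h | h⟩ := h
    · exact key h.2 crown_G2
    · exact key h crown_F4
    · exact key h crown_E6
    · exact key h crown_E7
    · exact key h crown_E8
  · obtain ⟨K, _, _, _, q, hq, h | h⟩ := h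
    · exact key h.2 (crown_twE6 hq h.1)
    · exact key h.2 (crown_twD4 hq h.1)
  · exact row_of_crown hs (crown_suzuki h)
  · exact row_of_crown hs (crown_2F4 h)
  · exact absurd h (by norm_num)

end Cfsg.Agent.H732.PB
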